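import Cfsg.Agent.Lib.PrimePlusOne.Affine
import Cfsg.Agent.Lib.ZassAbelian.Main
import Cfsg.Agent.Lib.Linear.LineModel
import Cfsg.Agent.Lib.Linear.ProjLine
import Cfsg.Agent.S0730
import Mathlib.NumberTheory.Fermat

/-!
# Transitive groups of degree `p + 1` and order `(p + 1) p d`, `d < p`
-/

set_option autoImplicit false
set_option linter.unusedSectionVars false
set_option linter.style.haveILetI false

open MulAction

namespace CfsgLib.PrimePlusOne

/-- A ring isomorphism gives an isomorphism of projective general linear groups. -/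
noncomputable def pglRingEquiv {R S : Type*} [CommRing R] [CommRing S] (e : R ≃+* S) :
    Matrix.ProjGenLinGroup (Fin 2) R ≃* Matrix.ProjGenLinGroup (Fin 2) S :=
  QuotientGroup.congr (Subgroup.center (GL (Fin 2) R)) (Subgroup.center (GL (Fin 2) S))
    (Units.mapEquiv (RingEquiv.mapMatrix e).toMulEquiv)
    (CfsgLib.Linear.map_center_mulEquiv _)

theorem pgl_two_two {α : Type*} [Fintype α] [DecidableEq α] (G : Subgroup (Equiv.Perm α))
    (hα : Fintype.card α = 3) (hG : Nat.card G = 6) :
    Nonempty (G ≃* Matrix.ProjGenLinGroup (Fin 2) (ZMod 2)) := by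
  classical
  haveI : Fact (Nat.Prime 2) := ⟨Nat.prime_two⟩
  have htop : G = ⊤ := Subgroup.eq_top_of_card_eq G (by
    rw [hG, Nat.card_perm, Nat.card_eq_fintype_card, hα]; rfl)
  haveI : Finite (Projectivization (ZMod 2) (Fin 2 → ZMod 2)) := Quotient.finite _
  haveI : Fintype (Projectivization (ZMod 2) (Fin 2 → ZMod 2)) := Fintype.ofFinite _
  have hP : Fintype.card (Projectivization (ZMod 2) (Fin 2 → ZMod 2)) = 3 := by
    rw [← Nat.card_eq_fintype_card, Projectivization.card_of_finrank_two (ZMod 2) (Fin 2 → ZMod 2)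
      (Module.finrank_fin_fun _), Nat.card_zmod]
  have e : α ≃ Projectivization (ZMod 2) (Fin 2 → ZMod 2) :=
    Fintype.equivOfCardEq (hα.trans hP.symm)
  let f := MulAction.toPermHom (Matrix.ProjGenLinGroup (Fin 2) (ZMod 2))
    (Projectivization (ZMod 2) (Fin 2 → ZMod 2))
  obtain ⟨x, y, z, hxy, hxz, hyz⟩ : ∃ x y z : Projectivization (ZMod 2) (Fin 2 → ZMod 2),
      x ≠ y ∧ x ≠ z ∧ y ≠ z := Fintype.two_lt_card_iff.1 (by rw [hP]; norm_num)
  have hinj : Function.Injective f := by
    rw [injective_iff_map_eq_one]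
    intro g hg
    have : ∀ w, g • w = w := fun w => congrArg (fun σ : Equiv.Perm _ => σ w) hg
    exact CfsgLib.Linear.pgl_eq_one_of_fix_triple g x y z hxy hxz hyz (this x) (this y) (this z)
  have hsurj : Function.Surjective f := by
    intro σ
    let T : Fin 3 ↪ Projectivization (ZMod 2) (Fin 2 → ZMod 2) :=
      (Fintype.equivFinOfCardEq hP).symm.toEmbedding
    obtain ⟨g, hg⟩ := (CfsgLib.Linear.pgl_three_pretransitive (F := ZMod 2)).exists_smul_eq T
      (T.trans σ.toEmbedding)
    refine ⟨g, Equiv.ext fun w => ?_⟩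
    have := DFunLike.congr_fun hg (Fintype.equivFinOfCardEq hP w)
    show g • w = σ w
    simpa [T, Function.Embedding.smul_apply] using this
  exact ⟨(MulEquiv.subgroupCongr htop).trans (Subgroup.topEquiv.trans
    (e.permCongrHom.trans (MulEquiv.ofBijective f ⟨hinj, hsurj⟩).symm))⟩

theorem classification {α : Type*} [Fintype α] [DecidableEq α] {p d : ℕ} (hp : p.Prime)
    (hα : Fintype.card α = p + 1) (G : Subgroup (Equiv.Perm α)) [MulAction.IsPretransitive G α]
    (hG : Nat.card G = (p + 1) * p * d) (hd : d < p) :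
    (d = p - 1 ∧ Nonempty (G ≃* Matrix.ProjGenLinGroup (Fin 2) (ZMod p))) ∨
      (2 * d = p - 1 ∧ Nonempty (G ≃* Matrix.ProjectiveSpecialLinearGroup (Fin 2) (ZMod p))) ∨
      (∃ q : ℕ, q.Prime ∧ p + 1 = 2 ^ q ∧ (d = 1 ∨ d = q) ∧ ∃ e : α ≃ GaloisField 2 q, ∀ g : G,
        (e.symm.trans (((g : Equiv.Perm α)).trans e)) ∈ Cfsg.semiaffineGroup (GaloisField 2 q)) := by
  classical
  haveI := Fact.mk hp
  have hd0 : 0 < d := by
    rcases Nat.eq_zero_or_pos d with h | h
    · rw [h, mul_zero] at hG; exact absurd hG Nat.card_pos.ne'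
    · exact h
  rcases eq_or_ne p 2 with hp2 | hp2
  · subst hp2
    obtain rfl : d = 1 := by omega
    exact Or.inl ⟨rfl, pgl_two_two G hα hG⟩
  obtain ⟨a⟩ : Nonempty α := Fintype.card_pos_iff.1 (by omega)
  have hB : Nat.card (stabilizer G a) = p * d := by
    have h := (stabilizer G a).card_mul_index
    rw [MulAction.index_stabilizer_of_transitive, hG, Nat.card_eq_fintype_card (α := α), hα] at h
    refine Nat.eq_of_mul_eq_mul_right (show 0 < p + 1 by omega) (h.trans ?_)
    ring
  obtain ⟨σ₀, hσ₀⟩ := exists_prime_orderOf_dvd_card' (G := stabilizer G a) p (hB ▸ dvd_mul_right p d)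
  set σ : G := (σ₀ : G) with hσdef
  have hσ : orderOf σ = p := (Subgroup.orderOf_coe σ₀).trans hσ₀
  have hσ1 : σ ≠ 1 := fun h => by rw [h, orderOf_one] at hσ; exact hp.one_lt.ne hσ
  have hσa : σ • a = a := σ₀.2
  have hσp : σ ^ p = 1 := by rw [← hσ, pow_orderOf_eq_one]
  -- `σ` fixes only `a`
  have hσfix : ∀ c : α, σ • c = c → c = a := by
    intro c hc
    have hs := Equiv.Perm.card_compl_support_modEq (p := p) (n := 1) (σ := (σ : Equiv.Perm α))
      (by rw [pow_one, ← Subgroup.coe_pow, hσp]; rfl)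
    rw [hα] at hs
    by_contra hca
    have h2 : 2 ≤ (σ : Equiv.Perm α).supportᶜ.card := by
      have hsub : ({c, a} : Finset α) ⊆ (σ : Equiv.Perm α).supportᶜ := by
        intro y hy
        simp only [Finset.mem_insert, Finset.mem_singleton] at hy
        rw [Finset.mem_compl, Equiv.Perm.notMem_support]
        rcases hy with rfl | rfl
        · exact hc
        · exact hσa
      have := Finset.card_le_card hsub
      rwa [Finset.card_pair hca] at this
    have hle := Finset.card_le_univ (σ : Equiv.Perm α).supportᶜ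
    rw [hα] at hle
    have h1 : (σ : Equiv.Perm α).supportᶜ.card = p + 1 := by
      rw [Nat.ModEq, Nat.add_mod, Nat.mod_self, zero_add, Nat.mod_mod,
        Nat.mod_eq_of_lt hp.one_lt] at hs
      rcases eq_or_lt_of_le hle with h | h
      · exact h
      · rcases eq_or_lt_of_le (Nat.lt_succ_iff.1 h) with h' | h'
        · rw [h', Nat.mod_self] at hs; omega
        · rw [Nat.mod_eq_of_lt h'] at hs; omega
    have hemp : (σ : Equiv.Perm α).support = ∅ := by
      rw [← Finset.card_eq_zero]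
      rw [Finset.card_compl, hα] at h1
      have := Finset.card_le_univ (σ : Equiv.Perm α).support
      rw [hα] at this
      omega
    exact hσ1 (Subtype.ext (Equiv.Perm.support_eq_empty_iff.1 hemp))
  set T : Subgroup G := Subgroup.zpowers σ with hT
  have hTcard : Nat.card T = p := (Nat.card_zpowers σ).trans hσ
  have hTa : ∀ t ∈ T, t • a = a := fun t ht =>
    Subgroup.zpowers_le.2 (show σ ∈ stabilizer G a from hσa) ht
  have hTc : ∀ x ∈ T, ∀ y ∈ T, x * y = y * x := fun x hx y hy => by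
    obtain ⟨i, rfl⟩ := hx
    obtain ⟨j, rfl⟩ := hy
    exact (Commute.zpow_zpow_self σ i j).eq
  have hTgen : ∀ t ∈ T, t ≠ 1 → σ ∈ Subgroup.zpowers t := by
    intro t ht ht1
    have h1 : Subgroup.zpowers t ≤ T := Subgroup.zpowers_le.2 ht
    have h2 := Subgroup.card_dvd_of_le h1
    rw [hTcard, Nat.card_zpowers] at h2
    rcases (Nat.dvd_prime hp).1 h2 with h3 | h3
    · exact absurd (orderOf_eq_one_iff.1 h3) ht1
    · rw [Subgroup.eq_of_le_of_card_ge h1 (by rw [hTcard, Nat.card_zpowers, h3])]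
      exact Subgroup.mem_zpowers σ
  have hTfree : ∀ t ∈ T, ∀ c : α, c ≠ a → t • c = c → t = 1 := by
    intro t ht c hc h
    by_contra ht1
    exact hc (hσfix c (Subgroup.zpowers_le.2 (show t ∈ stabilizer G c from h) (hTgen t ht ht1)))
  have hTtr : ∀ b c : α, b ≠ a → c ≠ a → ∃ t ∈ T, t • b = c := by
    intro b c hb hc
    let f : T → {y : α // y ≠ a} := fun t => ⟨(t : G) • b, fun h =>
      hb (MulAction.injective (t : G) (h.trans (hTa t t.2).symm))⟩
    have hf : Function.Bijective f := by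
      rw [Nat.bijective_iff_injective_and_card]
      refine ⟨fun s t h => ?_, ?_⟩
      · have h' : (s : G) • b = (t : G) • b := congrArg Subtype.val h
        exact Subtype.ext (inv_mul_eq_one.1 (hTfree _ (T.mul_mem (T.inv_mem t.2) s.2) b hb
          (by rw [mul_smul, h', inv_smul_smul]))).symm
      · rw [hTcard, Nat.card_eq_fintype_card, Fintype.card_subtype_compl, Fintype.card_subtype_eq, hα]
        rfl
    obtain ⟨t, ht⟩ := hf.2 ⟨c, hc⟩
    exact ⟨t, t.2, congrArg Subtype.val ht⟩
  have hTn : ∀ g : G, g • a = a → ∀ t ∈ T, g * t * g⁻¹ ∈ T := by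
    intro g hg t ht
    by_cases ht1 : t = 1
    · simp [ht1]
    set T' := T.map (MulAut.conj g).toMonoidHom with hT'
    have hT'card : Nat.card T' = p := by
      rw [hT', Subgroup.card_map_of_injective (MulAut.conj g).injective, hTcard]
    have hmem : g * t * g⁻¹ ∈ T' := ⟨t, ht, rfl⟩
    by_contra hnot
    have hdisj : Disjoint T T' := by
      rw [disjoint_iff]
      refine Subgroup.eq_bot_of_card_eq _ ?_
      rcases (Nat.dvd_prime hp).1
        ((Subgroup.card_dvd_of_le (inf_le_right (a := T) (b := T'))).trans (dvd_of_eq hT'card)) with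
        h | h
      · exact h
      · have h' : T ⊓ T' = T' := Subgroup.eq_of_le_of_card_ge inf_le_right (by rw [h, hT'card])
        exact absurd ((inf_eq_right.1 h') hmem) hnot
    have hle : T' ≤ stabilizer G a := by
      rintro _ ⟨s, hs, rfl⟩
      show (g * s * g⁻¹) • a = a
      rw [mul_smul, mul_smul, show g⁻¹ • a = a by rw [inv_smul_eq_iff, hg], hTa s hs, hg]
    have := Nat.card_le_card_of_injective (fun x : T × T' =>
      (⟨(x.1 : G) * x.2, Subgroup.mul_mem _ (hTa _ x.1.2) (hle x.2.2)⟩ : stabilizer G a))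
      (fun x y h => Subgroup.mul_injective_of_disjoint hdisj (congrArg Subtype.val h))
    rw [Nat.card_prod, hTcard, hT'card, hB] at this
    exact absurd (Nat.le_of_mul_le_mul_left this hp.pos) (by omega)
  have hC : ∀ g : G, g • a = a → g * σ = σ * g → ∀ b, b ≠ a → g • b = b → g = 1 := by
    intro g hg hc b hb hgb
    refine Subtype.ext (Equiv.ext fun y => ?_)
    show g • y = y
    by_cases hy : y = a
    · rw [hy, hg]
    obtain ⟨t, ht, rfl⟩ := hTtr b y hb hy
    obtain ⟨i, rfl⟩ := ht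
    rw [← mul_smul, ((Commute.zpow_right (show Commute g σ from hc) i)).eq, mul_smul, hgb]
  have hthree : ∀ g : G, ∀ b c : α, b ≠ a → c ≠ a → b ≠ c →
      g • a = a → g • b = b → g • c = c → g = 1 := by
    intro g b c hb hc hbc hga hgb hgc
    obtain ⟨t, ht, htb⟩ := hTtr b c hb hc
    have ht1 : t ≠ 1 := fun h => hbc (by rw [← htb, h, one_smul])
    have hgt : g * t * g⁻¹ = t := by
      have h1 : ((g * t * g⁻¹) * t⁻¹) • c = c := by
        rw [mul_smul, show t⁻¹ • c = b by rw [inv_smul_eq_iff, htb], mul_smul, mul_smul,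
          show g⁻¹ • b = b by rw [inv_smul_eq_iff, hgb], htb, hgc]
      have := hTfree _ (T.mul_mem (hTn g hga t ht) (T.inv_mem ht)) c hc h1
      exact mul_inv_eq_one.1 this
    have hcomm : g * σ = σ * g := by
      obtain ⟨i, hi⟩ := hTgen t ht ht1
      rw [← hi]
      exact (Commute.zpow_right (show Commute g t from mul_inv_eq_iff_eq_mul.1 hgt) i).eq
    exact hC g hga hcomm b hb hgb
  have htwo : IsMultiplyPretransitive G α 2 := by
    rw [MulAction.is_two_pretransitive_iff]
    intro x y z w hxy hzw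
    obtain ⟨g, hg⟩ := MulAction.exists_smul_eq G x a
    obtain ⟨h, hh⟩ := MulAction.exists_smul_eq G z a
    obtain ⟨t, ht, htt⟩ := hTtr (g • y) (h • w)
      (fun e => hxy (MulAction.injective g (hg.trans e.symm)))
      (fun e => hzw (MulAction.injective h (hh.trans e.symm)))
    refine ⟨h⁻¹ * t * g, ?_, ?_⟩
    · rw [mul_smul, mul_smul, hg, hTa t ht, inv_smul_eq_iff, hh]
    · rw [mul_smul, mul_smul, htt, inv_smul_smul]
  have hthree' : ∀ g : G, ∀ x y z : α, x ≠ y → y ≠ z → x ≠ z →
      g • x = x → g • y = y → g • z = z → g = 1 := by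
    intro g x y z hxy hyz hxz gx gy gz
    obtain ⟨k, hk⟩ := MulAction.exists_smul_eq G x a
    have hk' : k⁻¹ • a = x := by rw [inv_smul_eq_iff, hk]
    have h1 : k * g * k⁻¹ = 1 := hthree _ (k • y) (k • z)
      (fun e => hxy (MulAction.injective k (hk.trans e.symm)))
      (fun e => hxz (MulAction.injective k (hk.trans e.symm)))
      (fun e => hyz (MulAction.injective k e))
      (by rw [mul_smul, mul_smul, hk', gx, hk])
      (by rw [mul_smul, mul_smul, inv_smul_smul, gy])
      (by rw [mul_smul, mul_smul, inv_smul_smul, gz])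
    exact conj_eq_one_iff.1 h1
  obtain ⟨b, hb⟩ : ∃ b : α, b ≠ a := Fintype.exists_ne_of_one_lt_card (by omega) a
  have hE : Nat.card ↥(stabilizer G a ⊓ stabilizer G b) = d := by
    have horb : orbit (stabilizer G a) b = {c | c ≠ a} := by
      ext c
      refine ⟨?_, fun hc => ?_⟩
      · rintro ⟨g, rfl⟩ h
        exact hb (MulAction.injective (g : G) (h.trans (show (g : G) • a = a from g.2).symm))
      · obtain ⟨t, ht, htb⟩ := hTtr b c hb hc
        exact ⟨⟨t, hTa t ht⟩, htb⟩
    have h := (stabilizer (stabilizer G a) b).card_mul_index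
    rw [MulAction.index_stabilizer, horb, hB, ← Nat.card_coe_set_eq,
      show Nat.card {c : α | c ≠ a} = p by
        rw [Nat.card_eq_fintype_card]
        show Fintype.card {c : α // c ≠ a} = p
        rw [Fintype.card_subtype_compl, Fintype.card_subtype_eq, hα]
        rfl] at h
    rw [← Nat.eq_of_mul_eq_mul_right hp.pos (h.trans (mul_comm p d))]
    exact Nat.card_congr
      { toFun := fun g => ⟨⟨(g : G), g.2.1⟩, g.2.2⟩
        invFun := fun g => ⟨((g : stabilizer G a) : G), (g : stabilizer G a).2, g.2⟩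
        left_inv := fun _ => rfl
        right_inv := fun _ => rfl }
  -- the affine case
  have haff : ∀ R : Subgroup G, CfsgLib.Zass.IsRegularNormal R α →
      ∃ q : ℕ, q.Prime ∧ p + 1 = 2 ^ q ∧ (d = 1 ∨ d = q) ∧ ∃ e : α ≃ GaloisField 2 q, ∀ g : G,
        (e.symm.trans (((g : Equiv.Perm α)).trans e)) ∈ Cfsg.semiaffineGroup (GaloisField 2 q) := by
    intro R hR
    haveI : Nonempty α := ⟨a⟩
    have hRcard : Nat.card R = p + 1 := by
      rw [← hα, ← Nat.card_eq_fintype_card]
      exact Nat.card_congr (Equiv.ofBijective (fun x : R => (x : G) • a)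
        ⟨fun x y h => Subtype.ext (hR.eq_of_smul x.2 y.2 h), fun c => by
          obtain ⟨r, hr, hrc⟩ := hR.trans a c
          exact ⟨⟨r, hr⟩, hrc⟩⟩)
    have hne : R ≠ ⊥ := fun h => by
      rw [h, Subgroup.card_bot] at hRcard
      have := hp.two_le
      omega
    obtain ⟨hRc, r, hr, hRp, -⟩ := hR.elementary htwo hne
    haveI := Fact.mk hr
    obtain ⟨q, hq⟩ := IsPGroup.iff_card.1 hRp
    rw [hRcard] at hq
    have hodd := hp.odd_of_ne_two hp2
    have hr2 : r = 2 := by
      have h2 : 2 ∣ r ^ q := by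
        rw [← hq]; obtain ⟨i, hi⟩ := hodd; exact ⟨i + 1, by omega⟩
      exact ((Nat.prime_dvd_prime_iff_eq Nat.prime_two hr).1 (Nat.prime_two.dvd_of_dvd_pow h2)).symm
    subst hr2
    have hq1 : q ≠ 1 := fun h => by
      rw [h, pow_one] at hq
      have := hp.two_le
      omega
    have hqp : q.Prime := (Nat.prime_of_pow_sub_one_prime hq1
      (by rw [← hq, Nat.add_sub_cancel]; exact hp)).2
    obtain ⟨e, he, hdq⟩ := semiaffine_of_regular G hqp (hα.trans hq) hR hRc hTa hTn hTc hTtr
    exact ⟨q, hqp, hq, (Nat.dvd_prime hqp).1 (hE ▸ hdq b hb), e, he⟩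
  rcases eq_or_lt_of_le (show 1 ≤ d by omega) with hd1 | hd1
  · -- a Frobenius group
    refine Or.inr (Or.inr ?_)
    have h2 : ∀ g : G, ∀ x y : α, x ≠ y → g • x = x → g • y = y → g = 1 := by
      intro g x y hxy gx gy
      haveI : Subsingleton ↥(stabilizer G a ⊓ stabilizer G b) :=
        Finite.card_le_one_iff_subsingleton.1 (by rw [hE]; omega)
      obtain ⟨k, hk1, hk2⟩ := (MulAction.is_two_pretransitive_iff.1 htwo) hxy hb.symm
      have h' := congrArg Subtype.val (Subsingleton.elim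
        (⟨k * g * k⁻¹,
          (show (k * g * k⁻¹) • a = a by rw [mul_smul, mul_smul, ← hk1, inv_smul_smul, gx]),
          (show (k * g * k⁻¹) • b = b by rw [mul_smul, mul_smul, ← hk2, inv_smul_smul, gy])⟩ :
            ↥(stabilizer G a ⊓ stabilizer G b)) 1)
      exact conj_eq_one_iff.1 h'
    have hF : Cfsg.IsFrobeniusComplement (stabilizer G a) := by
      refine ⟨fun h => hσ1 (by
        have hm : σ ∈ stabilizer G a := hσa
        rwa [h, Subgroup.mem_bot] at hm), fun h => ?_, fun g hg => ?_⟩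
      · obtain ⟨g, hg⟩ := MulAction.exists_smul_eq G a b
        have : g ∈ stabilizer G a := h ▸ Subgroup.mem_top g
        exact hb (hg.symm.trans this)
      · rw [Subgroup.eq_bot_iff_forall]
        intro y hy
        obtain ⟨h1, h2'⟩ := Subgroup.mem_inf.1 hy
        have h3 : (g⁻¹ * y * g) • a = a := CfsgLib.Frobenius.mem_conjSMul_iff.1 h2'
        exact h2 y a (g • a) (fun h => hg h.symm) h1
          (by simpa [mul_smul, inv_smul_eq_iff] using h3)
    obtain ⟨R, hR, hRn, hRc⟩ := CfsgLib.Frobenius.exists_kernel_subgroup hF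
    haveI := hRn
    have htr : ∀ c : α, ∃ r ∈ R, r • a = c := by
      intro c
      obtain ⟨g, hg⟩ := MulAction.exists_smul_eq G a c
      obtain ⟨⟨⟨r, hr⟩, ⟨y, hy⟩⟩, hry⟩ := hRc.2 g
      refine ⟨r, hr, ?_⟩
      have h' : r * y = g := hry
      rw [← hg, ← h', mul_smul, show y • a = a from hy]
    refine haff R ⟨hRn, fun x y => ?_, fun r hr c hc => ?_⟩
    · obtain ⟨r, hr, rfl⟩ := htr x
      obtain ⟨s, hs, rfl⟩ := htr y
      exact ⟨s * r⁻¹, R.mul_mem hs (R.inv_mem hr), by rw [mul_smul, inv_smul_smul]⟩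
    · rw [← SetLike.mem_coe, hR] at hr
      rcases hr with h | h
      · exact h
      · obtain ⟨g, hg⟩ := MulAction.exists_smul_eq G a c
        refine absurd (CfsgLib.Frobenius.mem_conjSMul_iff.2 ?_) (h g)
        show (g⁻¹ * r * g) • a = a
        rw [mul_smul, mul_smul, hg, hc, inv_smul_eq_iff, hg]
  have hex : ∃ g : G, g ≠ 1 ∧ ∃ x y : α, x ≠ y ∧ g • x = x ∧ g • y = y := by
    haveI : Nontrivial ↥(stabilizer G a ⊓ stabilizer G b) :=
      Finite.one_lt_card_iff_nontrivial.1 (by omega)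
    obtain ⟨g, hg⟩ := exists_ne (1 : ↥(stabilizer G a ⊓ stabilizer G b))
    exact ⟨g, fun h => hg (Subtype.ext h), a, b, hb.symm, g.2.1, g.2.2⟩
  by_cases hreg : ∀ N : Subgroup G, N.Normal → MulAction.IsPretransitive N α →
      ∃ c : α, MulAction.stabilizer N c ≠ ⊥
  swap
  · push Not at hreg
    obtain ⟨N, hN, hNt, hNs⟩ := hreg
    haveI := hN
    exact Or.inr (Or.inr (haff N (CfsgLib.Zass.IsRegularNormal.of_pretransitive N hNt hNs)))
  have hZ : Cfsg.IsZassenhausGroup G α := ⟨inferInstance, htwo, hthree', hex, hreg⟩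
  have hP := CfsgLib.Zass.Pre.of hZ
  obtain ⟨K, hK⟩ := hP.exists_kernel a
  have hKT : K = T := by
    have hTK : T ≤ K := Subgroup.zpowers_le.2 (hK.mem σ hσa hσfix)
    refine (Subgroup.eq_of_le_of_card_ge hTK ?_).symm
    have := hK.card hP
    rw [hTcard]
    omega
  subst hKT
  have hab : a ≠ b := hb.symm
  have h1 : Fintype.card α - 2 ≤ 2 * Nat.card ↥(stabilizer G a ⊓ stabilizer G b) := by
    rcases Nat.even_or_odd (Nat.card ↥(stabilizer G a ⊓ stabilizer G b)) with h | h
    · exact Cfsg.Agent.S0741.result hZ hab h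
    · exact CfsgLib.ZassAbelian.card_sub_two_le hZ hab hK hTc h
  obtain ⟨c, hc⟩ := hP.card_dvd_sub_two hab
  rw [hE, hα] at h1 hc
  have hc2 : c ≤ 2 := by
    refine Nat.le_of_mul_le_mul_left ?_ (show 0 < d by omega)
    rw [← hc, mul_comm]; exact h1
  interval_cases c
  · have := hp.two_le
    omega
  · refine Or.inl ⟨by omega, ?_⟩
    obtain ⟨hS, -⟩ := hP.isS3_of_sharp (fun x y hxy => by
      rw [hP.card_pair_eq hxy hab, hE, hα, hc, mul_one])
    obtain ⟨F, iF, iFF, hF, ⟨iso⟩⟩ := Cfsg.Agent.S0730.result hp hp2 odd_one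
      (show Fintype.card α = p ^ 1 + 1 by rw [pow_one]; exact hα) G hS.trans hS.sharp
    rw [pow_one] at hF
    exact ⟨iso.trans (pglRingEquiv (ZMod.ringEquivOfPrime F hp hF).symm)⟩
  · refine Or.inr (Or.inl ⟨by omega, ?_⟩)
    have hd2 : 2 * Nat.card ↥(stabilizer G a ⊓ stabilizer G b) = Fintype.card α - 2 := by
      rw [hE, hα]; omega
    obtain ⟨s, -, hss, hsa, hsb⟩ := hP.exists_swap (hP.two_dvd_card hab) hab
    have hinv : ∀ h ∈ stabilizer G a ⊓ stabilizer G b, s * h * s⁻¹ = h⁻¹ := by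
      rcases Nat.even_or_odd (Nat.card ↥(stabilizer G a ⊓ stabilizer G b)) with h | h
      · exact ((hP.cyclic_of_extremal hab h hd2).2 s hsa hsb).2
      · exact (hP.odd_stab hab h (CfsgLib.ZassAbelian.hnil_of_eq hZ hab hK hTc hd2 h)).2.2 s hsa hsb
    obtain ⟨F, iF, iFF, hF, -, -, ⟨iso⟩⟩ := CfsgLib.ZassPSL.exists_mulEquiv_psl hP hab _ hK hTc hp
      (f := 1) (by rw [pow_one]; exact hTcard) (by rw [hd2]; omega) hsa hsb hss hinv
    rw [pow_one] at hF
    exact ⟨iso.trans (CfsgLib.Linear.pslRingEquiv (ZMod.ringEquivOfPrime F hp hF).symm)⟩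

end CfsgLib.PrimePlusOne
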