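import Cfsg.Prelude.Def_Perm
import Cfsg.Agent.Lib.Zass.Normal
import Cfsg.Agent.Lib.SuzukiTwo.Alternating
import Cfsg.Agent.Lib.Semilinear.NormalAbelian

/-!
# A regular normal 2-subgroup with a regular abelian group on its involutions
-/

set_option autoImplicit false
set_option linter.unusedSectionVars false
set_option linter.style.haveILetI false

open MulAction

namespace CfsgLib.PrimePlusOne

theorem semiaffine_of_regular {α : Type*} [Fintype α] [DecidableEq α] (G : Subgroup (Equiv.Perm α))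
    {q : ℕ} (hq : q.Prime) (hα : Fintype.card α = 2 ^ q) {R : Subgroup G}
    (hR : CfsgLib.Zass.IsRegularNormal R α) (hRc : ∀ x ∈ R, ∀ y ∈ R, x * y = y * x)
    {a : α} {T : Subgroup G} (hTa : ∀ t ∈ T, t • a = a)
    (hTn : ∀ g : G, g • a = a → ∀ t ∈ T, g * t * g⁻¹ ∈ T)
    (hTc : ∀ x ∈ T, ∀ y ∈ T, x * y = y * x)
    (hTtr : ∀ b c : α, b ≠ a → c ≠ a → ∃ t ∈ T, t • b = c) :
    ∃ (e : α ≃ GaloisField 2 q),
      (∀ g : G, e.symm.trans (((g : Equiv.Perm α)).trans e) ∈ Cfsg.semiaffineGroup (GaloisField 2 q)) ∧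
      ∀ b : α, b ≠ a → Nat.card ↥(stabilizer G a ⊓ stabilizer G b) ∣ q := by
  classical
  haveI := hR.normal
  letI : CommGroup R :=
    { (inferInstance : Group R) with mul_comm := fun x y => Subtype.ext (hRc x x.2 y y.2) }
  let ι : T →* MulAut R := (MulAut.conjNormal : G →* MulAut R).comp T.subtype
  have hι : ∀ (t : T) (r : R), ((ι t r : R) : G) = (t : G) * r * (t : G)⁻¹ := fun t r => rfl
  have hconj : ∀ (g : G) (r : R), g • a = a →
      ((MulAut.conjNormal g r : R) : G) • a = g • (r : G) • a := fun g r hg => by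
    rw [MulAut.conjNormal_apply]
    exact CfsgLib.Zass.IsRegularNormal.conj_smul hg (r : G)
  obtain ⟨b, hb⟩ : ∃ b : α, b ≠ a :=
    Fintype.exists_ne_of_one_lt_card (by rw [hα]; exact Nat.one_lt_two_pow hq.ne_zero) a
  obtain ⟨u, hu, hub⟩ := hR.trans a b
  have hu1 : (⟨u, hu⟩ : R) ≠ 1 := fun h => hb (by
    have h' : u = 1 := congrArg Subtype.val h
    rw [h', one_smul] at hub; exact hub.symm)
  have hne : ∀ x : R, x ≠ 1 → (x : G) • a ≠ a := fun x hx h =>
    hx (Subtype.ext (hR.free x x.2 a h))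
  have htrans : ∀ x : R, x ≠ 1 → ∃ t : T, ι t ⟨u, hu⟩ = x := by
    intro x hx
    obtain ⟨t, ht, htb⟩ := hTtr b ((x : G) • a) hb (hne x hx)
    refine ⟨⟨t, ht⟩, Subtype.ext (hR.eq_of_smul (SetLike.coe_mem _) x.2 (x := a) ?_)⟩
    rw [show ((ι ⟨t, ht⟩ ⟨u, hu⟩ : R) : G) • a = t • u • a from hconj t ⟨u, hu⟩ (hTa t ht), hub, htb]
  obtain ⟨F, iF, iFF, ψ, hψ1, hψ⟩ := CfsgLib.SuzukiTwo.exists_field_structure ι
    (fun k l x => by
      have : ι k * ι l = ι l * ι k := by
        rw [← map_mul, ← map_mul, show k * l = l * k from Subtype.ext (hTc k k.2 l l.2)]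
      exact DFunLike.congr_fun this x) hu1 htrans
  let ρ : R ≃ α := Equiv.ofBijective (fun x : R => (x : G) • a)
    ⟨fun x y h => Subtype.ext (hR.eq_of_smul x.2 y.2 h), fun c => by
      obtain ⟨r, hr, hrc⟩ := hR.trans a c
      exact ⟨⟨r, hr⟩, hrc⟩⟩
  let P : F ≃ α := (Multiplicative.ofAdd.trans ψ.toEquiv).trans ρ
  have hP : ∀ x : F, P x = ((ψ (Multiplicative.ofAdd x) : R) : G) • a := fun _ => rfl
  have hFcard : Fintype.card F = 2 ^ q := (Fintype.card_congr P).trans hα
  -- elements fixing `a` act semilinearly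
  have hstab : ∀ g : G, g • a = a → ∃ (a0 : Fˣ) (θ : F ≃+* F),
      ∀ x : F, g • P x = P ((a0 : F) * θ x) := by
    intro g hg
    let φ : F ≃+ F :=
      { toFun := fun x => Multiplicative.toAdd (ψ.symm (MulAut.conjNormal g (ψ (Multiplicative.ofAdd x))))
        invFun := fun x => Multiplicative.toAdd (ψ.symm ((MulAut.conjNormal g).symm (ψ (Multiplicative.ofAdd x))))
        left_inv := fun x => by simp
        right_inv := fun x => by simp
        map_add' := fun x y => by simp [ofAdd_add] }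
    have hφ : ∀ x, MulAut.conjNormal g (ψ (Multiplicative.ofAdd x)) = ψ (Multiplicative.ofAdd (φ x)) := by
      intro x; simp [φ]
    have hφ1 : φ 1 ≠ 0 := fun h => one_ne_zero (φ.injective (h.trans φ.map_zero.symm))
    have hmul : ∀ x y : F, x ≠ 0 → φ (x * y) * φ 1 = φ x * φ y := by
      intro x y hx
      obtain ⟨k, hk⟩ := htrans (ψ (Multiplicative.ofAdd x)) (fun h => hx (by
        have h' := ψ.injective (h.trans ψ.map_one.symm)
        exact congrArg Multiplicative.toAdd h'))
      obtain ⟨c, -, hc⟩ := hψ k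
      have hcx : c = x := by
        have h := hc 1
        rw [hψ1, hk, mul_one] at h
        exact (congrArg Multiplicative.toAdd (ψ.injective h)).symm
      subst hcx
      obtain ⟨c', -, hc'⟩ := hψ ⟨g * k * g⁻¹, hTn g hg k k.2⟩
      have hrel : ∀ z, φ (c * z) = c' * φ z := by
        intro z
        have h1 : MulAut.conjNormal g (ι k (ψ (Multiplicative.ofAdd z))) =
            ι ⟨g * k * g⁻¹, hTn g hg k k.2⟩ (MulAut.conjNormal g (ψ (Multiplicative.ofAdd z))) :=
          Subtype.ext (by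
            simp only [hι, MulAut.conjNormal_apply]
            group)
        rw [hc, hφ, hφ, hc'] at h1
        exact congrArg Multiplicative.toAdd (ψ.injective h1)
      have h1 := hrel 1
      rw [mul_one] at h1
      rw [hrel, h1]
      ring
    let θ : F ≃+* F :=
      { toFun := fun x => (φ 1)⁻¹ * φ x
        invFun := fun x => φ.symm (φ 1 * x)
        left_inv := fun x => by
          show φ.symm (φ 1 * ((φ 1)⁻¹ * φ x)) = x
          rw [mul_inv_cancel_left₀ hφ1, φ.symm_apply_apply]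
        right_inv := fun x => by
          show (φ 1)⁻¹ * φ (φ.symm (φ 1 * x)) = x
          rw [φ.apply_symm_apply, inv_mul_cancel_left₀ hφ1]
        map_mul' := fun x y => by
          show (φ 1)⁻¹ * φ (x * y) = (φ 1)⁻¹ * φ x * ((φ 1)⁻¹ * φ y)
          rcases eq_or_ne x 0 with rfl | hx
          · simp
          · have := hmul x y hx
            field_simp
            linear_combination this
        map_add' := fun x y => by
          show (φ 1)⁻¹ * φ (x + y) = (φ 1)⁻¹ * φ x + (φ 1)⁻¹ * φ y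
          rw [map_add, mul_add] }
    refine ⟨Units.mk0 _ hφ1, θ, fun x => ?_⟩
    show g • P x = P (φ 1 * ((φ 1)⁻¹ * φ x))
    rw [mul_inv_cancel_left₀ hφ1, hP, hP, ← hφ, hconj g _ hg]
  have htransl : ∀ r : R, ∃ c : F, ∀ x : F, (r : G) • P x = P (x + c) := by
    intro r
    refine ⟨Multiplicative.toAdd (ψ.symm r), fun x => ?_⟩
    rw [hP, hP, ← mul_smul, ← Subgroup.coe_mul, ofAdd_add, map_mul, ofAdd_toAdd,
      MulEquiv.apply_symm_apply, mul_comm r]
  have hall : ∀ g : G, ∃ (a0 : Fˣ) (c : F) (θ : F ≃+* F), ∀ x : F, g • P x = P ((a0 : F) * θ x + c) := by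
    intro g
    obtain ⟨r, hr, hra⟩ := hR.trans a (g • a)
    obtain ⟨a0, θ, hθ⟩ := hstab (r⁻¹ * g) (by rw [mul_smul, ← hra, inv_smul_smul])
    obtain ⟨c, hc⟩ := htransl ⟨r, hr⟩
    refine ⟨a0, c, θ, fun x => ?_⟩
    have h := hθ x
    rw [mul_smul, inv_smul_eq_iff] at h
    rw [h]
    exact hc _
  haveI : CharP F 2 := by
    obtain ⟨n, hp, hn⟩ := FiniteField.card F (ringChar F)
    have h2 : ringChar F = 2 := by
      rw [hFcard] at hn
      exact (Nat.prime_dvd_prime_iff_eq hp Nat.prime_two).1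
        (hp.dvd_of_dvd_pow (hn ▸ dvd_pow_self (ringChar F) n.ne_zero))
    exact h2 ▸ ringChar.charP F
  haveI : Fact (Nat.Prime 2) := ⟨Nat.prime_two⟩
  haveI : Fintype (GaloisField 2 q) := Fintype.ofFinite _
  let E : F ≃+* GaloisField 2 q := FiniteField.ringEquivOfCardEq (K := F) (K' := GaloisField 2 q) (by
    rw [hFcard, ← Nat.card_eq_fintype_card, GaloisField.card 2 q hq.ne_zero])
  refine ⟨P.symm.trans E.toEquiv, fun g => ?_, fun c hca => ?_⟩
  · obtain ⟨a0, c, θ, h⟩ := hall g
    refine ⟨Units.map (E : F →* GaloisField 2 q) a0, E c, (E.symm.trans θ).trans E, fun x => ?_⟩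
    have h' : (g : Equiv.Perm α) (P (E.symm x)) = P ((a0 : F) * θ (E.symm x) + c) := h (E.symm x)
    show E (P.symm ((g : Equiv.Perm α) (P (E.symm x)))) = _
    rw [h', Equiv.symm_apply_apply]
    simp
  · have hex : ∀ g : ↥(stabilizer G a ⊓ stabilizer G b), ∃ θ : F ≃+* F,
        ∀ x : F, (g : G) • P x = P (θ x) := by
      intro g
      obtain ⟨a0, θ, hθ⟩ := hstab g g.2.1
      have h1 : P 1 = b := by
        rw [hP, hψ1]; exact hub
      have h2 := hθ 1
      rw [map_one θ, mul_one, h1, show (g : G) • b = b from g.2.2, ← h1] at h2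
      exact ⟨θ, fun x => by rw [hθ, ← P.injective h2, one_mul]⟩
    choose Θ hΘ using hex
    let f : ↥(stabilizer G a ⊓ stabilizer G b) →* (F ≃+* F) :=
      MonoidHom.mk' Θ fun g h => RingEquiv.ext fun x => P.injective (by
        rw [← hΘ, Subgroup.coe_mul, mul_smul, hΘ, hΘ]
        rfl)
    have hinj : Function.Injective f := fun g h hgh => Subtype.ext (Subtype.ext (Equiv.ext fun y => by
      obtain ⟨x, rfl⟩ := P.surjective y
      show (g : G) • P x = (h : G) • P x
      rw [hΘ, hΘ, show Θ g = Θ h from hgh]))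
    have hcard := Subgroup.card_dvd_of_injective f hinj
    rw [(CfsgLib.Semilinear.isCyclic_ringEquiv_and_card (q := 2) hFcard).2] at hcard
    obtain ⟨t, ht, htb⟩ := hTtr b c hb hca
    have hmap : (stabilizer G a ⊓ stabilizer G c).map (MulAut.conj t⁻¹).toMonoidHom ≤
        stabilizer G a ⊓ stabilizer G b := by
      rintro _ ⟨g, hg, rfl⟩
      simp only [MulEquiv.coe_toMonoidHom, MulAut.conj_apply, inv_inv]
      refine ⟨?_, ?_⟩
      · show (t⁻¹ * g * t) • a = a
        rw [mul_smul, mul_smul, hTa t ht, show g • a = a from hg.1, inv_smul_eq_iff, hTa t ht]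
      · show (t⁻¹ * g * t) • b = b
        rw [mul_smul, mul_smul, htb, show g • c = c from hg.2, inv_smul_eq_iff, htb]
    have h3 := Subgroup.card_dvd_of_le hmap
    rw [Subgroup.card_map_of_injective (MulAut.conj t⁻¹).injective] at h3
    exact h3.trans hcard

end CfsgLib.PrimePlusOne
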